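import Mathlib

/-!
# Integrality descends from the reduction of a faithfully flat algebra
-/

universe u

open Polynomial

namespace Groth.Agent.CAlgIntRed

variable {A B : Type u} [CommRing A] [IsDomain A] [CommRing B] [Algebra A B] [Module.FaithfullyFlat A B]

lemma injective_reduction : Function.Injective (algebraMap A (B ⧸ nilradical B)) := by
  rw [injective_iff_map_eq_zero]
  intro a ha
  rw [IsScalarTower.algebraMap_apply A B (B ⧸ nilradical B), Ideal.Quotient.algebraMap_eq,
    Ideal.Quotient.eq_zero_iff_mem, mem_nilradical] at ha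
  obtain ⟨n, hn⟩ := ha
  rw [← map_pow, ← map_zero (algebraMap A B)] at hn
  exact eq_zero_of_pow_eq_zero (FaithfulSMul.algebraMap_injective A B hn)

lemma mem_nonZeroDivisors_reduction {a : A} (ha : a ≠ 0) :
    algebraMap A (B ⧸ nilradical B) a ∈ nonZeroDivisors (B ⧸ nilradical B) := by
  rw [mem_nonZeroDivisors_iff_right]
  intro z hz
  obtain ⟨b, rfl⟩ := Ideal.Quotient.mk_surjective z
  rw [IsScalarTower.algebraMap_apply A B (B ⧸ nilradical B), Ideal.Quotient.algebraMap_eq, ← map_mul,
    Ideal.Quotient.eq_zero_iff_mem] at hz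
  obtain ⟨n, hn⟩ := hz
  refine Ideal.Quotient.eq_zero_iff_mem.2 ⟨n, ?_⟩
  rw [mul_pow, ← map_pow, mul_comm, ← Algebra.smul_def] at hn
  have hinj : Function.Injective (LinearMap.lsmul A A (a ^ n)) := fun u v h =>
    mul_left_cancel₀ (pow_ne_zero n ha) h
  have h2 := Module.Flat.lTensor_preserves_injective_linearMap (M := B) _ hinj
  have h3 : Function.Injective (fun u : B => a ^ n • u) := fun u v h => by
    have h4 : LinearMap.lTensor B (LinearMap.lsmul A A (a ^ n)) ((TensorProduct.rid A B).symm u) =
        LinearMap.lTensor B (LinearMap.lsmul A A (a ^ n)) ((TensorProduct.rid A B).symm v) := by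
      simp only [TensorProduct.rid_symm_apply, LinearMap.lTensor_tmul, LinearMap.lsmul_apply,
        TensorProduct.tmul_smul]
      rw [TensorProduct.smul_tmul', TensorProduct.smul_tmul', show a ^ n • u = a ^ n • v from h]
    exact (TensorProduct.rid A B).symm.injective (h2 h4)
  exact h3 (by simpa using hn)

/-- A power of `a` lying in the ideal of lower terms gives integrality of `a / s`. -/
lemma isIntegral_of_pow_mem {K : Type u} [Field K] [Algebra A K] [IsFractionRing A K] {a s : A} (hs : s ≠ 0)
    {N : ℕ} (h : a ^ N ∈ Ideal.span ((fun j => a ^ j * s ^ (N - j)) '' (Finset.range N : Set ℕ))) :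
    IsIntegral A (algebraMap A K a / algebraMap A K s) := by
  classical
  rw [← Finset.coe_image] at h
  obtain ⟨c, hc⟩ : ∃ c : ℕ → A, a ^ N = ∑ j ∈ Finset.range N, c j * (a ^ j * s ^ (N - j)) := by
    rw [Finset.coe_image] at h
    obtain ⟨l, hl, e⟩ := (Finsupp.mem_span_image_iff_linearCombination A).1 h
    refine ⟨l, ?_⟩
    rw [← e, Finsupp.linearCombination_apply]
    exact Finsupp.sum_of_support_subset l (s := Finset.range N) (fun j hj => Finset.mem_coe.1 (hl hj))
      (fun i a_1 => a_1 • (a ^ i * s ^ (N - i))) (fun j _ => zero_smul _ _)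
  refine ⟨X ^ N - ∑ j ∈ Finset.range N, C (c j) * X ^ j, monic_X_pow_sub ?_, ?_⟩
  · refine (degree_sum_le _ _).trans_lt ((Finset.sup_lt_iff (WithBot.bot_lt_coe N)).2 fun j hj => ?_)
    exact (degree_C_mul_X_pow_le j (c j)).trans_lt (WithBot.coe_lt_coe.2 (Finset.mem_range.1 hj))
  · have hs' : algebraMap A K s ≠ 0 := (map_ne_zero_iff _ (IsFractionRing.injective A K)).2 hs
    have e := congrArg (algebraMap A K) hc
    simp only [map_pow, map_sum, map_mul] at e
    rw [eval₂_sub, eval₂_X_pow, eval₂_finsetSum, sub_eq_zero, div_pow, div_eq_iff (pow_ne_zero _ hs'), e,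
      Finset.sum_mul]
    refine Finset.sum_congr rfl fun j hj => ?_
    obtain ⟨d, rfl⟩ := Nat.exists_eq_add_of_le (Finset.mem_range.1 hj).le
    rw [eval₂_mul, eval₂_C, eval₂_X_pow, Nat.add_sub_cancel_left, pow_add, div_pow]
    field_simp

theorem isIntegral_iff (R : Type u) [CommRing R] [Algebra (B ⧸ nilradical B) R]
    [IsFractionRing (B ⧸ nilradical B) R]
    [Algebra A R] [IsScalarTower A (B ⧸ nilradical B) R] [Algebra (FractionRing A) R]
    [IsScalarTower A (FractionRing A) R] (x : FractionRing A) :
    IsIntegral (B ⧸ nilradical B) (algebraMap (FractionRing A) R x) ↔ IsIntegral A x := by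
  classical
  refine ⟨fun h => ?_, fun h => (h.map (IsScalarTower.toAlgHom A (FractionRing A) R)).tower_top⟩
  obtain ⟨a, s, hs, rfl⟩ := IsFractionRing.div_surjective A x
  have hs0 : s ≠ 0 := nonZeroDivisors.ne_zero hs
  obtain ⟨P, hP, hPz⟩ := h
  let C' := B ⧸ nilradical B
  let aC : C' := algebraMap A C' a
  let sC : C' := algebraMap A C' s
  let n := P.natDegree
  have hz : algebraMap C' R sC * algebraMap (FractionRing A) R
      (algebraMap A (FractionRing A) a / algebraMap A (FractionRing A) s) = algebraMap C' R aC := by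
    rw [← IsScalarTower.algebraMap_apply, ← IsScalarTower.algebraMap_apply,
      IsScalarTower.algebraMap_apply A (FractionRing A) R s, IsScalarTower.algebraMap_apply A (FractionRing A) R a,
      ← map_mul, mul_div_cancel₀ _ ((map_ne_zero_iff _ (IsFractionRing.injective A _)).2 hs0)]
  have hrel : (P.scaleRoots sC).eval aC = 0 := by
    apply IsFractionRing.injective C' R
    rw [← eval₂_at_apply, ← hz, scaleRoots_eval₂_mul, hPz, mul_zero, map_zero]
  choose b hb using fun i => Ideal.Quotient.mk_surjective (P.coeff i)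
  let e : B := algebraMap A B a ^ n + ∑ i ∈ Finset.range n, b i * (algebraMap A B a ^ i * algebraMap A B s ^ (n - i))
  have he : e ∈ nilradical B := by
    rw [← Ideal.Quotient.eq_zero_iff_mem, map_add, map_pow, map_sum]
    rw [eval_eq_sum_range, natDegree_scaleRoots, Finset.sum_range_succ, add_comm] at hrel
    simp only [coeff_scaleRoots, hP.coeff_natDegree, Nat.sub_self, pow_zero, mul_one, one_mul] at hrel
    refine Eq.trans ?_ hrel
    congr 1
    refine Finset.sum_congr rfl fun i _ => ?_
    rw [map_mul, map_mul, map_pow, map_pow, hb]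
    show P.coeff i * (aC ^ i * sC ^ (n - i)) = _
    ring
  obtain ⟨k, hk⟩ := he
  let u := algebraMap A B a
  let v := algebraMap A B s
  let V : ℕ → Ideal B := fun N => Ideal.span ((fun j => u ^ j * v ^ (N - j)) '' (Finset.range N : Set ℕ))
  have hgen : ∀ {N j d : ℕ}, j < N → j + d = N → u ^ j * v ^ d ∈ V N := fun hj hd =>
    Ideal.subset_span ⟨_, Finset.mem_coe.2 (Finset.mem_range.2 hj), by subst hd; simp⟩
  have hexp : ∀ k, e ^ k - u ^ (n * k) ∈ V (n * k) := by
    intro k
    induction k with
    | zero => simp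
    | succ k ih =>
      have h1 : e ^ (k + 1) - u ^ (n * (k + 1)) = (e ^ k - u ^ (n * k)) * e +
          u ^ (n * k) * (∑ i ∈ Finset.range n, b i * (u ^ i * v ^ (n - i))) := by
        simp only [e, u, v]
        ring
      rw [h1]
      refine add_mem ?_ ?_
      · have hmul : ∀ w ∈ V (n * k), ∀ c : B, ∀ j d : ℕ, j + d = n → w * (c * (u ^ j * v ^ d)) ∈ V (n * (k + 1)) := by
          intro w hw c j d hjd
          induction hw using Submodule.span_induction with
          | mem w hw =>
            obtain ⟨i, hi, rfl⟩ := hw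
            rw [Finset.mem_coe, Finset.mem_range] at hi
            show u ^ i * v ^ (n * k - i) * (c * (u ^ j * v ^ d)) ∈ _
            rw [show u ^ i * v ^ (n * k - i) * (c * (u ^ j * v ^ d)) = c * (u ^ (i + j) * v ^ (n * k - i + d)) by ring]
            refine Ideal.mul_mem_left _ c (hgen ?_ ?_) <;> (rw [Nat.mul_succ]; omega)
          | zero => simp
          | add p q _ _ hp hq => rw [add_mul]; exact add_mem hp hq
          | smul r p _ hp => rw [smul_eq_mul, mul_assoc]; exact Ideal.mul_mem_left _ r hp
        show (e ^ k - u ^ (n * k)) * (u ^ n + ∑ i ∈ Finset.range n, b i * (u ^ i * v ^ (n - i))) ∈ _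
        rw [mul_add (e ^ k - u ^ (n * k)), Finset.mul_sum]
        refine add_mem ?_ (Ideal.sum_mem _ fun i hi => hmul _ ih _ i (n - i) ?_)
        · simpa using hmul _ ih 1 n 0 (by omega)
        · have := Finset.mem_range.1 hi; omega
      · rw [Finset.mul_sum]
        refine Ideal.sum_mem _ fun i hi => ?_
        rw [show u ^ (n * k) * (b i * (u ^ i * v ^ (n - i))) = b i * (u ^ (n * k + i) * v ^ (n - i)) by ring]
        have := Finset.mem_range.1 hi
        refine Ideal.mul_mem_left _ _ (hgen ?_ ?_) <;> (rw [Nat.mul_succ]; omega)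
  have hmem : u ^ (n * k) ∈ V (n * k) := by
    have := hexp k
    rw [hk, zero_sub] at this
    exact neg_mem_iff.1 this
  refine isIntegral_of_pow_mem hs0 (N := n * k) ?_
  rw [← Ideal.comap_map_eq_self_of_faithfullyFlat (B := B) (Ideal.span ((fun j => a ^ j * s ^ (n * k - j)) '' (Finset.range (n * k) : Set ℕ))),
    Ideal.mem_comap, Ideal.map_span, map_pow, Set.image_image]
  refine (?_ : V (n * k) ≤ _) hmem
  refine Ideal.span_mono (le_of_eq ?_)
  refine Set.image_congr' fun j => ?_
  simp [u, v]

end Groth.Agent.CAlgIntRed
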